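import Mathlib
import Cfsg.Agent.Rec.Bit

/-! Generated by tools/rec/bit.py: 13 × 13 matrices over the field with two elements. -/

set_option autoImplicit false
set_option exponentiation.threshold 10000

namespace Cfsg.Agent.Rec.B13

open Cfsg.Agent.Spor Cfsg.Agent.Spor.NM

/-- The product of packed matrices. -/
noncomputable def mul (a b : ℕ) : ℕ :=
  (Nat.xor (Nat.xor (Nat.xor (Nat.xor (Nat.xor (Nat.xor (Nat.xor (Nat.xor (Nat.xor (Nat.xor (Nat.xor (Nat.xor (Nat.mul (Nat.land a (nat_lit 0x1000800400200100080040020010008004002001)) (Nat.land b (nat_lit 8191)))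
    (Nat.mul (Nat.land (Nat.shiftRight a (nat_lit 1)) (nat_lit 0x1000800400200100080040020010008004002001)) (Nat.land (Nat.shiftRight b (nat_lit 13)) (nat_lit 8191))))
    (Nat.mul (Nat.land (Nat.shiftRight a (nat_lit 2)) (nat_lit 0x1000800400200100080040020010008004002001)) (Nat.land (Nat.shiftRight b (nat_lit 26)) (nat_lit 8191))))
    (Nat.mul (Nat.land (Nat.shiftRight a (nat_lit 3)) (nat_lit 0x1000800400200100080040020010008004002001)) (Nat.land (Nat.shiftRight b (nat_lit 39)) (nat_lit 8191))))
    (Nat.mul (Nat.land (Nat.shiftRight a (nat_lit 4)) (nat_lit 0x1000800400200100080040020010008004002001)) (Nat.land (Nat.shiftRight b (nat_lit 52)) (nat_lit 8191))))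
    (Nat.mul (Nat.land (Nat.shiftRight a (nat_lit 5)) (nat_lit 0x1000800400200100080040020010008004002001)) (Nat.land (Nat.shiftRight b (nat_lit 65)) (nat_lit 8191))))
    (Nat.mul (Nat.land (Nat.shiftRight a (nat_lit 6)) (nat_lit 0x1000800400200100080040020010008004002001)) (Nat.land (Nat.shiftRight b (nat_lit 78)) (nat_lit 8191))))
    (Nat.mul (Nat.land (Nat.shiftRight a (nat_lit 7)) (nat_lit 0x1000800400200100080040020010008004002001)) (Nat.land (Nat.shiftRight b (nat_lit 91)) (nat_lit 8191))))
    (Nat.mul (Nat.land (Nat.shiftRight a (nat_lit 8)) (nat_lit 0x1000800400200100080040020010008004002001)) (Nat.land (Nat.shiftRight b (nat_lit 104)) (nat_lit 8191))))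
    (Nat.mul (Nat.land (Nat.shiftRight a (nat_lit 9)) (nat_lit 0x1000800400200100080040020010008004002001)) (Nat.land (Nat.shiftRight b (nat_lit 117)) (nat_lit 8191))))
    (Nat.mul (Nat.land (Nat.shiftRight a (nat_lit 10)) (nat_lit 0x1000800400200100080040020010008004002001)) (Nat.land (Nat.shiftRight b (nat_lit 130)) (nat_lit 8191))))
    (Nat.mul (Nat.land (Nat.shiftRight a (nat_lit 11)) (nat_lit 0x1000800400200100080040020010008004002001)) (Nat.land (Nat.shiftRight b (nat_lit 143)) (nat_lit 8191))))
    (Nat.mul (Nat.land (Nat.shiftRight a (nat_lit 12)) (nat_lit 0x1000800400200100080040020010008004002001)) (Nat.land (Nat.shiftRight b (nat_lit 156)) (nat_lit 8191))))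

theorem spec : MatSpec (ZMod 2) 13 1 (· < 2) (fun x => (x : ZMod 2)) mul (nat_lit 0x1000400100040010004001000400100040010004001)
    (fun a => blt a (nat_lit 0x2000000000000000000000000000000000000000000)) :=
  matSpec_bit (m := 12) (C := (nat_lit 0x1000800400200100080040020010008004002001)) (R := (nat_lit 8191)) (fun _ _ => rfl) (by decide +kernel)

/-- The arithmetic. -/
noncomputable def A : Ar := loopAr mul (nat_lit 0x1000400100040010004001000400100040010004001) (nat_lit 0x4000000000000000000000000000000000000000000)

theorem fuel : 2 * Nat.card (GL (Fin 13) (ZMod 2)) ≤ (nat_lit 0x4000000000000000000000000000000000000000000) := (card_GL_le 13).trans (by decide +kernel)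

/-- The codes. -/
noncomputable def C : Cod A (GL (Fin 13) (ZMod 2)) := loopCod (spec.model (Equiv.refl _)) fuel

/-- The test for codes. -/
noncomputable def v : ℕ → Bool := loopV mul (nat_lit 0x1000400100040010004001000400100040010004001) (nat_lit 0x4000000000000000000000000000000000000000000) fun a => blt a (nat_lit 0x2000000000000000000000000000000000000000000)

theorem repL {c : List ℕ} (h : allL c v = true) : C.RepL c (c.map C.elt) := repL_loop _ fuel h

/-- The code of a given matrix. -/
theorem rep {a : ℕ} {g : GL (Fin 13) (ZMod 2)} (ha : blt a (nat_lit 0x2000000000000000000000000000000000000000000) = true)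
    (h : ∀ i j, g i j = (fld 1 a (13 * i + j) : ℕ)) : C.Rep a g :=
  spec.of_coe (Equiv.refl _) ha (Matrix.ext h)

end Cfsg.Agent.Rec.B13
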